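import Cfsg.Prelude.Def_ParabolicCharacters
import Cfsg.Agent.Lib.TwoByTwo.Companion
import Cfsg.Agent.Lib.SL2Tori.Basic

/-!
`GL_2` over a field: the Borel subgroup, its cosets and the centralisers of non-scalar elements.
-/

set_option autoImplicit false

namespace CfsgLib.GL2Char

open Matrix CfsgLib.TwoByTwo

variable {F : Type*} [Field F]

local notation "GL2" => GL (Fin 2) F
local notation "M2" => Matrix (Fin 2) (Fin 2) F
local notation "B2" => Cfsg.upperTriangularGL 2 F

/-- An element without eigenvector. -/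
def NoEigen (g : M2) : Prop := ∀ (c : F) (v : Fin 2 → F), v ≠ 0 → g *ᵥ v ≠ c • v

/-- A diagonal element with distinct entries. -/
def DiagDistinct (g : M2) : Prop := g 0 1 = 0 ∧ g 1 0 = 0 ∧ g 0 0 ≠ g 1 1

theorem mem_B {g : GL2} : g ∈ B2 ↔ (g : M2) 1 0 = 0 := by
  show (g : M2).BlockTriangular id ↔ _
  constructor
  · exact fun h => h (i := 1) (j := 0) (by decide)
  · intro h i j hij
    fin_cases i <;> fin_cases j <;> first | exact h | exact absurd hij (by decide)

/-- The element `[[a, x], [0, d]]`. -/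
noncomputable def mkB (a d : Fˣ) (x : F) : B2 :=
  ⟨GeneralLinearGroup.mkOfDetNeZero !![(a : F), x; 0, (d : F)] (by simp [det_fin_two]),
    mem_B.2 rfl⟩

@[simp] theorem mkB_coe (a d : Fˣ) (x : F) : ((mkB a d x : GL2) : M2) = !![(a : F), x; 0, (d : F)] :=
  rfl

theorem B_diag_ne (b : B2) : ((b : GL2) : M2) 0 0 ≠ 0 ∧ ((b : GL2) : M2) 1 1 ≠ 0 := by
  have h := (b : GL2).det_ne_zero
  rw [det_fin_two, mem_B.1 b.2, mul_zero, sub_zero] at h
  exact mul_ne_zero_iff.1 h

theorem B_mul_diag (x y : B2) :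
    (((x * y : B2) : GL2) : M2) 0 0 = ((x : GL2) : M2) 0 0 * ((y : GL2) : M2) 0 0 ∧
      (((x * y : B2) : GL2) : M2) 1 1 = ((x : GL2) : M2) 1 1 * ((y : GL2) : M2) 1 1 := by
  simp [Subgroup.coe_mul, Matrix.mul_apply, Fin.sum_univ_two, mem_B.1 x.2, mem_B.1 y.2]

theorem mkB_bijective : Function.Bijective (fun p : Fˣ × Fˣ × F => mkB p.1 p.2.1 p.2.2) := by
  constructor
  · rintro ⟨a, d, x⟩ ⟨a', d', x'⟩ e
    have e' := congrArg (fun g : B2 => ((g : GL2) : M2)) e
    have h1 := congrFun (congrFun e' 0) 0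
    have h2 := congrFun (congrFun e' 1) 1
    have h3 := congrFun (congrFun e' 0) 1
    simp at h1 h2 h3
    rw [Units.ext h1, Units.ext h2, h3]
  · intro g
    refine ⟨(Units.mk0 _ (B_diag_ne g).1, Units.mk0 _ (B_diag_ne g).2, ((g : GL2) : M2) 0 1),
      Subtype.ext (Units.ext ?_)⟩
    rw [mkB_coe]
    ext i j
    fin_cases i <;> fin_cases j <;> simp [mem_B.1 g.2]

theorem card_B [Fintype F] :
    Nat.card B2 = (Fintype.card F - 1) * (Fintype.card F - 1) * Fintype.card F := by
  rw [← Nat.card_eq_of_bijective _ mkB_bijective, Nat.card_prod, Nat.card_prod, Nat.card_units,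
    Nat.card_eq_fintype_card, mul_assoc]

/-- Representatives of the cosets of the Borel subgroup, indexed by the projective line. -/
noncomputable def lineRep : Option F → GL (Fin 2) F
  | none => 1
  | some u => GeneralLinearGroup.mkOfDetNeZero !![u, 1; 1, 0] (by simp [det_fin_two])

theorem lineRep_some (u : F) : (lineRep (some u) : M2) = !![u, 1; 1, 0] := rfl

theorem lineRep_inv (u : F) : (((lineRep (some u))⁻¹ : GL2) : M2) = !![0, 1; 1, -u] := by
  rw [Matrix.GeneralLinearGroup.coe_inv, lineRep_some]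
  refine Matrix.inv_eq_right_inv ?_
  ext i j
  fin_cases i <;> fin_cases j <;> simp [Matrix.mul_apply, Fin.sum_univ_two]

theorem lineRep_conj (g : GL2) (u : F) :
    (((lineRep (some u))⁻¹ * g * lineRep (some u) : GL2) : M2) 1 0 =
        -((g : M2) 1 0) * u ^ 2 + ((g : M2) 0 0 - (g : M2) 1 1) * u + (g : M2) 0 1 ∧
      (((lineRep (some u))⁻¹ * g * lineRep (some u) : GL2) : M2) 0 0 =
        (g : M2) 1 0 * u + (g : M2) 1 1 ∧
      (((lineRep (some u))⁻¹ * g * lineRep (some u) : GL2) : M2) 1 1 =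
        (g : M2) 0 0 - (g : M2) 1 0 * u := by
  rw [Units.val_mul, Units.val_mul, lineRep_inv, lineRep_some]
  refine ⟨?_, ?_, ?_⟩ <;> simp [Matrix.mul_apply, Fin.sum_univ_two, Matrix.vecMul, dotProduct] <;> ring

theorem mk_lineRep_bijective :
    Function.Bijective (fun o : Option F => (QuotientGroup.mk (lineRep o) : GL2 ⧸ B2)) := by
  constructor
  · rintro (_ | u) (_ | v) e
    · rfl
    · have := mem_B.1 (QuotientGroup.eq.1 e)
      rw [show lineRep (F := F) none = 1 from rfl, inv_one, one_mul, lineRep_some] at this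
      simp at this
    · have := mem_B.1 (QuotientGroup.eq.1 e.symm)
      rw [show lineRep (F := F) none = 1 from rfl, inv_one, one_mul, lineRep_some] at this
      simp at this
    · have := mem_B.1 (QuotientGroup.eq.1 e)
      rw [Units.val_mul, lineRep_inv, lineRep_some] at this
      simp [Matrix.mul_apply, Fin.sum_univ_two] at this
      exact congrArg some (by linear_combination -this)
  · intro x
    induction x using QuotientGroup.induction_on with
    | _ g =>
      by_cases hc : (g : M2) 1 0 = 0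
      · refine ⟨none, QuotientGroup.eq.2 (mem_B.2 ?_)⟩
        simp [lineRep, hc]
      · refine ⟨some ((g : M2) 0 0 / (g : M2) 1 0), QuotientGroup.eq.2 (mem_B.2 ?_)⟩
        rw [Units.val_mul, lineRep_inv]
        simp [Matrix.mul_apply, Fin.sum_univ_two]
        field_simp
        ring

theorem not_isScal_of_noEigen {g : M2} (h : NoEigen g) : ¬ IsScal g := fun hs =>
  h (g 0 0) ![1, 0] (by simp) (by
    conv_lhs => rw [eq_smul_one_of_isScal hs]
    rw [smul_mulVec, one_mulVec])

theorem not_isScal_of_diagDistinct {g : M2} (h : DiagDistinct g) : ¬ IsScal g := fun hs => h.2.2 hs.2.2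

theorem card_centralizer_eq (g : GL2) (hg : ¬ IsScal (g : M2)) :
    Nat.card (Subgroup.centralizer ({g} : Set GL2)) =
      Nat.card {p : F × F // (p.1 • (1 : M2) + p.2 • (g : M2)).det ≠ 0} := by
  let f : {p : F × F // (p.1 • (1 : M2) + p.2 • (g : M2)).det ≠ 0} →
      Subgroup.centralizer ({g} : Set GL2) := fun p =>
    ⟨GeneralLinearGroup.mkOfDetNeZero _ p.2, Subgroup.mem_centralizer_singleton_iff.2 (Units.ext (by
      show (p.1.1 • (1 : M2) + p.1.2 • (g : M2)) * (g : M2) =
        (g : M2) * (p.1.1 • (1 : M2) + p.1.2 • (g : M2))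
      rw [add_mul, mul_add, smul_mul_assoc, smul_mul_assoc, mul_smul_comm, mul_smul_comm, one_mul,
        mul_one]))⟩
  refine (Nat.card_eq_of_bijective f ⟨?_, ?_⟩).symm
  · rintro ⟨⟨x, y⟩, hp⟩ ⟨⟨x', y'⟩, hp'⟩ e
    have e' : x • (1 : M2) + y • (g : M2) = x' • (1 : M2) + y' • (g : M2) :=
      congrArg (fun h : Subgroup.centralizer ({g} : Set GL2) => ((h : GL2) : M2)) e
    have hy : y = y' := by
      by_contra hy
      refine hg ?_
      have hy0 : y - y' ≠ 0 := sub_ne_zero.2 hy
      have hgs : (g : M2) = ((x' - x) / (y - y')) • (1 : M2) := by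
        rw [div_eq_inv_mul, mul_smul, sub_smul, eq_inv_smul_iff₀ hy0, sub_smul]
        linear_combination (norm := module) e'
      rw [hgs]
      simp [IsScal]
    subst hy
    have h00 := congrFun (congrFun e' 0) 0
    simp at h00
    subst h00
    rfl
  · rintro ⟨h, hh⟩
    have hc : (h : M2) * (g : M2) = (g : M2) * (h : M2) :=
      congrArg Units.val (Subgroup.mem_centralizer_singleton_iff.1 hh)
    obtain ⟨x, y, hxy⟩ := CfsgLib.SL2Tori.commutant (fun s e => hg (by rw [e]; simp [IsScal])) hc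
    exact ⟨⟨(x, y), by rw [← hxy]; exact h.det_ne_zero⟩, Subtype.ext (Units.ext hxy.symm)⟩

theorem card_centralizer_diag [Fintype F] (g : GL2) (h : DiagDistinct (g : M2)) :
    Nat.card (Subgroup.centralizer ({g} : Set GL2)) = (Fintype.card F - 1) ^ 2 := by
  obtain ⟨h01, h10, hne⟩ := h
  rw [card_centralizer_eq g (not_isScal_of_diagDistinct ⟨h01, h10, hne⟩)]
  have hd : ∀ x y : F, (x • (1 : M2) + y • (g : M2)).det =
      (x + y * (g : M2) 0 0) * (x + y * (g : M2) 1 1) := by
    intro x y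
    simp [det_fin_two, h01, h10]
  let f : {p : F × F // (p.1 • (1 : M2) + p.2 • (g : M2)).det ≠ 0} → Fˣ × Fˣ := fun p =>
    (Units.mk0 (p.1.1 + p.1.2 * (g : M2) 0 0) (left_ne_zero_of_mul (hd p.1.1 p.1.2 ▸ p.2)),
      Units.mk0 (p.1.1 + p.1.2 * (g : M2) 1 1) (right_ne_zero_of_mul (hd p.1.1 p.1.2 ▸ p.2)))
  have hne' : (g : M2) 0 0 - (g : M2) 1 1 ≠ 0 := sub_ne_zero.2 hne
  have hf : Function.Bijective f := by
    constructor
    · rintro ⟨⟨x, y⟩, hp⟩ ⟨⟨x', y'⟩, hp'⟩ e
      simp only [f, Prod.mk.injEq, Units.ext_iff, Units.val_mk0] at e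
      obtain ⟨e1, e2⟩ := e
      have hy : y = y' := mul_right_cancel₀ hne' (by linear_combination e1 - e2)
      subst hy
      simp at e1
      subst e1
      rfl
    · rintro ⟨a, d⟩
      have hy : ((a : F) - d) / ((g : M2) 0 0 - (g : M2) 1 1) * ((g : M2) 0 0 - (g : M2) 1 1) =
          (a : F) - d := div_mul_cancel₀ _ hne'
      refine ⟨⟨((a : F) - ((a : F) - d) / ((g : M2) 0 0 - (g : M2) 1 1) * (g : M2) 0 0,
        ((a : F) - d) / ((g : M2) 0 0 - (g : M2) 1 1)), ?_⟩, Prod.ext (Units.ext ?_) (Units.ext ?_)⟩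
      · rw [hd]
        refine mul_ne_zero ?_ ?_
        · rw [sub_add_cancel]; exact a.ne_zero
        · convert d.ne_zero using 1
          linear_combination -hy
      · simp [f]
      · simp [f]
        linear_combination -hy
  rw [Nat.card_eq_of_bijective f hf, Nat.card_prod, Nat.card_units, Nat.card_eq_fintype_card, sq]

theorem card_centralizer_noEigen [Fintype F] (g : GL2) (h : NoEigen (g : M2)) :
    Nat.card (Subgroup.centralizer ({g} : Set GL2)) = Fintype.card F ^ 2 - 1 := by
  classical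
  rw [card_centralizer_eq g (not_isScal_of_noEigen h)]
  have hiff : ∀ p : F × F, (p.1 • (1 : M2) + p.2 • (g : M2)).det ≠ 0 ↔ p ≠ 0 := by
    rintro ⟨x, y⟩
    refine ⟨fun hd e => hd (by simp at e; simp [e.1, e.2]), fun hp hd => ?_⟩
    obtain ⟨v, hv, hmv⟩ := Matrix.exists_mulVec_eq_zero_iff.2 hd
    rw [add_mulVec, smul_mulVec, smul_mulVec, one_mulVec] at hmv
    by_cases hy : y = 0
    · subst hy
      rw [zero_smul, add_zero, smul_eq_zero] at hmv
      exact hp (Prod.ext (hmv.resolve_right hv) rfl)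
    · refine h (-x / y) v hv ?_
      rw [div_eq_inv_mul, mul_smul, eq_inv_smul_iff₀ hy, neg_smul]
      linear_combination (norm := module) hmv
  rw [Nat.card_congr (Equiv.subtypeEquivRight hiff), Nat.card_eq_fintype_card, Fintype.card_subtype_compl,
    Fintype.card_subtype_eq, Fintype.card_prod, sq]

end CfsgLib.GL2Char
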