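import Cfsg.Agent.Lib.GL2Char.Basic
import Cfsg.Agent.Lib.SL2Tori.Induced
import Cfsg.Agent.Lib.Characters.Induction
import Cfsg.Agent.Lib.Characters.Generalized
import Cfsg.Agent.Lib.OddChar.OrthProj

/-!
The principal series and the Steinberg characters of `GL_2`.
-/

set_option autoImplicit false

namespace CfsgLib.GL2Char

open Matrix CfsgLib.Characters
open scoped ComplexConjugate

variable {F : Type*} [Field F]

local notation "GL2" => GL (Fin 2) F
local notation "M2" => Matrix (Fin 2) (Fin 2) F
local notation "B2" => Cfsg.upperTriangularGL 2 F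

/-- The linear character `b ↦ α(b₁₁) β(b₂₂)` of the Borel subgroup. -/
noncomputable abbrev bChar (α β : MulChar F ℂ) : B2 → ℂ :=
  fun b => α (((b : GL2) : M2) 0 0) * β (((b : GL2) : M2) 1 1)

/-- The linear character of the Borel subgroup, as a homomorphism. -/
noncomputable def bHom (α β : MulChar F ℂ) : B2 →* ℂ where
  toFun := bChar α β
  map_one' := by simp [bChar]
  map_mul' x y := by
    simp only [bChar, (B_mul_diag x y).1, (B_mul_diag x y).2, map_mul]
    ring

theorem isCharacter_bChar (α β : MulChar F ℂ) : Cfsg.IsCharacter B2 (bChar α β) :=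
  CfsgLib.Induction.isCharacter_monoidHom (bHom α β)

theorem isClassFunction_bChar (α β : MulChar F ℂ) : Cfsg.IsClassFunction B2 (bChar α β) := by
  intro g x
  show bHom α β (x * g * x⁻¹) = bHom α β g
  rw [map_mul, map_mul, mul_comm (bHom α β x), mul_assoc, ← map_mul, mul_inv_cancel, map_one, mul_one]

/-- The linear character `α ∘ det`. -/
noncomputable def detChar (α : MulChar F ℂ) : GL (Fin 2) F → ℂ :=
  fun g => α ((g : Matrix (Fin 2) (Fin 2) F).det)

theorem isIrrCharacter_detChar (α : MulChar F ℂ) : Cfsg.IsIrrCharacter GL2 (detChar α) := by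
  have e : detChar α = fun g : GL2 =>
      (((MulChar.toUnitHom α).comp Matrix.GeneralLinearGroup.det) g : ℂ) := by
    funext g
    rw [MonoidHom.comp_apply, MulChar.coe_toUnitHom]
    rfl
  rw [e]
  exact isIrrCharacter_of_hom _

variable [Fintype F] [DecidableEq F]

/-- The principal series character. -/
noncomputable def ps (α β : MulChar F ℂ) : GL (Fin 2) F → ℂ :=
  Cfsg.indFun (Cfsg.upperTriangularGL 2 F) (bChar α β)

theorem isCharacter_ps (α β : MulChar F ℂ) : Cfsg.IsCharacter GL2 (ps α β) :=
  CfsgLib.Induction.isCharacter_indFun _ (isCharacter_bChar α β)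

theorem isClassFunction_ps (α β : MulChar F ℂ) : Cfsg.IsClassFunction GL2 (ps α β) :=
  CfsgLib.Induction.isClassFunction_indFun _ _

theorem ps_apply (α β : MulChar F ℂ) (g : GL2) :
    ps α β g = (if (g : M2) 1 0 = 0 then α ((g : M2) 0 0) * β ((g : M2) 1 1) else 0) +
      ∑ u : F, if -((g : M2) 1 0) * u ^ 2 + ((g : M2) 0 0 - (g : M2) 1 1) * u + (g : M2) 0 1 = 0
        then α ((g : M2) 1 0 * u + (g : M2) 1 1) * β ((g : M2) 0 0 - (g : M2) 1 0 * u) else 0 := by
  classical
  have : Fintype (GL2 ⧸ B2) := Fintype.ofFinite _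
  rw [ps, CfsgLib.Induction.indFun_eq_sum_quotient B2 (isClassFunction_bChar α β) g,
    ← Equiv.sum_comp (Equiv.ofBijective _ (mk_lineRep_bijective (F := F)))]
  have key : ∀ x : GL2, Cfsg.extendByZero B2 (bChar α β)
      ((QuotientGroup.mk x : GL2 ⧸ B2).out⁻¹ * g * (QuotientGroup.mk x : GL2 ⧸ B2).out) =
      Cfsg.extendByZero B2 (bChar α β) (x⁻¹ * g * x) := by
    intro x
    obtain ⟨b, hb⟩ := QuotientGroup.mk_out_eq_mul B2 x
    rw [hb, ← CfsgLib.Induction.extendByZero_conj _ (isClassFunction_bChar α β) b]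
    congr 1
    group
  have hval : ∀ x : GL2, Cfsg.extendByZero B2 (bChar α β) x =
      if (x : M2) 1 0 = 0 then α ((x : M2) 0 0) * β ((x : M2) 1 1) else 0 := by
    intro x
    split_ifs with h
    · rw [CfsgLib.Induction.extendByZero_mem _ _ (mem_B.2 h)]
    · rw [CfsgLib.Induction.extendByZero_notMem _ _ (fun h' => h (mem_B.1 h'))]
  simp only [Equiv.ofBijective_apply, key, hval, Fintype.sum_option]
  congr 1
  · simp [lineRep]
  · refine Finset.sum_congr rfl fun u _ => ?_
    rw [(lineRep_conj g u).1, (lineRep_conj g u).2.1, (lineRep_conj g u).2.2]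

theorem ps_scalar (α β : MulChar F ℂ) {g : GL2} (h : TwoByTwo.IsScal (g : M2)) :
    ps α β g = ((Fintype.card F : ℂ) + 1) * (α ((g : M2) 0 0) * β ((g : M2) 0 0)) := by
  obtain ⟨h01, h10, he⟩ := h
  rw [ps_apply]
  simp [h01, h10, ← he]
  ring

theorem ps_one (α β : MulChar F ℂ) : ps α β 1 = (Fintype.card F : ℂ) + 1 := by
  rw [ps_scalar α β (g := 1) (by simp [TwoByTwo.IsScal])]
  simp

theorem ps_diag (α β : MulChar F ℂ) {g : GL2} (h : DiagDistinct (g : M2)) :
    ps α β g = α ((g : M2) 0 0) * β ((g : M2) 1 1) + α ((g : M2) 1 1) * β ((g : M2) 0 0) := by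
  obtain ⟨h01, h10, hne⟩ := h
  rw [ps_apply]
  simp [h01, h10, sub_eq_zero, hne]

theorem ps_jordan (α β : MulChar F ℂ) {g : GL2} (h10 : (g : M2) 1 0 = 0)
    (he : (g : M2) 0 0 = (g : M2) 1 1) (h01 : (g : M2) 0 1 ≠ 0) :
    ps α β g = α ((g : M2) 0 0) * β ((g : M2) 0 0) := by
  rw [ps_apply]
  simp [h10, h01, ← he]

theorem ps_noEigen (α β : MulChar F ℂ) {g : GL2} (h : NoEigen (g : M2)) : ps α β g = 0 := by
  rw [ps_apply, if_neg, zero_add, Finset.sum_eq_zero fun u _ => if_neg ?_]
  · intro hu
    refine h ((g : M2) 1 0 * u + (g : M2) 1 1) ![u, 1] (fun e => one_ne_zero (congrFun e 1)) ?_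
    ext i
    fin_cases i <;> simp [Matrix.mulVec, dotProduct, Fin.sum_univ_two]
    linear_combination hu
  · intro hc
    refine h ((g : M2) 0 0) ![1, 0] (fun e => one_ne_zero (congrFun e 0)) ?_
    ext i
    fin_cases i <;> simp [Matrix.mulVec, dotProduct, Fin.sum_univ_two, hc]

theorem sum_units_conj_mul (α β : MulChar F ℂ) [Decidable (α = β)] :
    ∑ a : Fˣ, α (a : F) * conj (β (a : F)) = if α = β then ((Fintype.card F : ℂ) - 1) else 0 := by
  classical
  have h : ∀ a : Fˣ, α (a : F) * conj (β (a : F)) = (α * β⁻¹) (a : F) := fun a => by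
    rw [MulChar.mul_apply]
    congr 1
    exact MulChar.star_apply' β _
  simp only [h, CfsgLib.SL2Tori.sum_units_mulChar, mul_inv_eq_one]

theorem sum_mkB (f : B2 → ℂ) [Fintype B2] :
    ∑ b : B2, f b = ∑ a : Fˣ, ∑ d : Fˣ, ∑ x : F, f (mkB a d x) := by
  rw [← Equiv.sum_comp (Equiv.ofBijective _ (mkB_bijective (F := F))), Fintype.sum_prod_type]
  exact Finset.sum_congr rfl fun a _ => by rw [Fintype.sum_prod_type]; rfl

theorem classInner_bChar [Fintype B2] (α β : MulChar F ℂ) (f : GL2 → ℂ) :
    Cfsg.classInner (bChar α β) (fun b : B2 => f b) =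
      ((((Fintype.card F : ℂ) - 1) ^ 2 * Fintype.card F))⁻¹ *
        ∑ a : Fˣ, ∑ d : Fˣ, α (a : F) * β (d : F) * conj (∑ x : F, f (mkB a d x)) := by
  rw [Cfsg.classInner, sum_mkB, card_B, Nat.cast_mul, Nat.cast_mul, Nat.cast_sub Fintype.card_pos,
    Nat.cast_one, sq]
  congr 1
  refine Finset.sum_congr rfl fun a _ => Finset.sum_congr rfl fun d _ => ?_
  rw [map_sum, Finset.mul_sum]
  rfl

omit [DecidableEq F] in
theorem card_factors_ne_zero :
    ((Fintype.card F : ℂ) - 1) ^ 2 * Fintype.card F ≠ 0 := by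
  have hq1 : (Fintype.card F : ℂ) - 1 ≠ 0 := by
    rw [sub_ne_zero]; exact_mod_cast Fintype.one_lt_card.ne'
  exact mul_ne_zero (pow_ne_zero 2 hq1) (Nat.cast_ne_zero.2 Fintype.card_ne_zero)

theorem sum_ps_mkB (α β : MulChar F ℂ) (a d : Fˣ) :
    ∑ x : F, ps α β (mkB a d x) =
      (Fintype.card F : ℂ) * (α (a : F) * β (d : F) + α (d : F) * β (a : F)) := by
  simp only [ps_apply, mkB_coe, Matrix.of_apply, Matrix.cons_val', Matrix.cons_val_zero,
    Matrix.cons_val_one, Matrix.cons_val_fin_one, if_true, neg_zero, zero_mul, zero_add,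
    Finset.sum_add_distrib, sub_zero]
  rw [Finset.sum_comm, mul_add]
  congr 1
  · simp
  · have : ∀ u x : F, ((a : F) - d) * u + x = 0 ↔ x = -(((a : F) - d) * u) := fun u x =>
      eq_neg_iff_add_eq_zero.symm.trans ⟨fun h => by rw [h, neg_neg], fun h => by rw [h, neg_neg]⟩
    simp [this]

/-- The Mackey formula. -/
theorem classInner_ps (α β α' β' : MulChar F ℂ) [Decidable (α = α')] [Decidable (β = β')]
    [Decidable (α = β')] [Decidable (β = α')] :
    Cfsg.classInner (ps α β) (ps α' β') =
      (if α = α' then 1 else 0) * (if β = β' then 1 else 0) +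
        (if α = β' then 1 else 0) * (if β = α' then 1 else 0) := by
  classical
  rw [ps, CfsgLib.Induction.classInner_indFun B2 _ (isClassFunction_ps α' β'), classInner_bChar]
  have e : ∀ a d : Fˣ, α (a : F) * β (d : F) *
      conj ((Fintype.card F : ℂ) * (α' (a : F) * β' (d : F) + α' (d : F) * β' (a : F))) =
      (Fintype.card F : ℂ) * ((α (a : F) * conj (α' (a : F))) * (β (d : F) * conj (β' (d : F)))) +
      (Fintype.card F : ℂ) * ((α (a : F) * conj (β' (a : F))) * (β (d : F) * conj (α' (d : F)))) := by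
    intro a d
    simp only [map_mul, map_add, map_natCast]
    ring
  simp only [sum_ps_mkB, e, Finset.sum_add_distrib, ← Finset.mul_sum, ← Finset.sum_mul,
    sum_units_conj_mul]
  have hq : (Fintype.card F : ℂ) ≠ 0 := Nat.cast_ne_zero.2 Fintype.card_ne_zero
  have hq1 : (Fintype.card F : ℂ) - 1 ≠ 0 := by
    rw [sub_ne_zero]; exact_mod_cast Fintype.one_lt_card.ne'
  split_ifs <;> field_simp <;> ring

theorem classInner_ps_detChar (α β γ : MulChar F ℂ) [Decidable (α = γ)] [Decidable (β = γ)] :
    Cfsg.classInner (ps α β) (detChar γ) =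
      (if α = γ then 1 else 0) * (if β = γ then 1 else 0) := by
  classical
  rw [ps, CfsgLib.Induction.classInner_indFun B2 _
    (isClassFunction_of_isCharacter (isCharacter_of_irr (isIrrCharacter_detChar γ))), classInner_bChar]
  have e : ∀ a d : Fˣ, α (a : F) * β (d : F) * conj (∑ x : F, detChar γ (mkB a d x : GL2)) =
      (Fintype.card F : ℂ) * ((α (a : F) * conj (γ (a : F))) * (β (d : F) * conj (γ (d : F)))) := by
    intro a d
    simp only [detChar, mkB_coe, det_fin_two_of, mul_zero, sub_zero, Finset.sum_const, Finset.card_univ,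
      nsmul_eq_mul, map_mul, map_natCast]
    ring
  simp only [e, ← Finset.mul_sum, ← Finset.sum_mul, sum_units_conj_mul]
  have hq : (Fintype.card F : ℂ) ≠ 0 := Nat.cast_ne_zero.2 Fintype.card_ne_zero
  have hq1 : (Fintype.card F : ℂ) - 1 ≠ 0 := by
    rw [sub_ne_zero]; exact_mod_cast Fintype.one_lt_card.ne'
  split_ifs <;> field_simp <;> ring

omit [Fintype F] [DecidableEq F] in
theorem detChar_injective : Function.Injective (detChar (F := F)) := by
  intro α β h
  refine MulChar.ext fun a => ?_
  have := congrFun h (mkB a 1 0 : GL2)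
  simpa [detChar] using this

theorem classInner_detChar (α β : MulChar F ℂ) [Decidable (α = β)] :
    Cfsg.classInner (detChar α) (detChar β) = if α = β then 1 else 0 := by
  classical
  have := classInner_irr (⟨detChar α, isIrrCharacter_detChar α⟩ : Cfsg.IrrCharacter GL2)
    ⟨detChar β, isIrrCharacter_detChar β⟩
  simp only [Subtype.mk.injEq, detChar_injective.eq_iff] at this
  rw [this]

theorem isIrrCharacter_ps {α β : MulChar F ℂ} (h : α ≠ β) : Cfsg.IsIrrCharacter GL2 (ps α β) := by
  classical
  refine (isIrrCharacter_iff_classInner_self (isCharacter_ps α β)).2 ?_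
  rw [classInner_ps]
  simp [h]

theorem ps_eq_iff (α β α' β' : MulChar F ℂ) :
    ps α β = ps α' β' ↔ (α = α' ∧ β = β') ∨ (α = β' ∧ β = α') := by
  classical
  constructor
  · intro h
    have h1 := classInner_ps α β α β
    have h2 := classInner_ps α β α' β'
    rw [← h, h1] at h2
    by_contra hne
    rw [not_or, not_and_or, not_and_or] at hne
    have e1 : (if α = α' then (1 : ℂ) else 0) * (if β = β' then 1 else 0) = 0 := by
      rcases hne.1 with hh | hh <;> simp [hh]
    have e2 : (if α = β' then (1 : ℂ) else 0) * (if β = α' then 1 else 0) = 0 := by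
      rcases hne.2 with hh | hh <;> simp [hh]
    rw [e1, e2] at h2
    simp only [if_true] at h2
    split_ifs at h2 <;> norm_num at h2
  · rintro (⟨rfl, rfl⟩ | ⟨rfl, rfl⟩)
    · rfl
    · have key : Cfsg.classInner (ps α β - ps β α) (ps α β - ps β α) = 0 := by
        rw [classInner_sub_left, classInner_sub_right, classInner_sub_right, classInner_ps, classInner_ps,
          classInner_ps, classInner_ps]
        by_cases hab : α = β
        · subst hab; simp
        · simp [hab, Ne.symm hab]
      exact sub_eq_zero.1 (CfsgLib.OddChar.eq_zero_of_classInner_self key)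

/-- The Steinberg character twisted by `α ∘ det`. -/
noncomputable def st (α : MulChar F ℂ) : GL (Fin 2) F → ℂ := ps α α - detChar α

theorem st_one (α : MulChar F ℂ) : st α (1 : GL2) = (Fintype.card F : ℂ) := by
  simp [st, ps_one, detChar]

theorem classInner_st (α β : MulChar F ℂ) [Decidable (α = β)] :
    Cfsg.classInner (st α) (st β) = if α = β then 1 else 0 := by
  classical
  rw [st, st, classInner_sub_left, classInner_sub_right, classInner_sub_right, classInner_ps,
    classInner_ps_detChar, classInner_detChar, CfsgLib.Induction.classInner_swap (detChar α),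
    classInner_ps_detChar]
  by_cases h : α = β
  · subst h; simp
  · simp [h, Ne.symm h]

theorem isIrrCharacter_st (α : MulChar F ℂ) : Cfsg.IsIrrCharacter GL2 (st α) := by
  classical
  refine isIrrCharacter_of_generalized_norm_one (θ := st α) (isGeneralizedCharacter_sub
    (isGeneralizedCharacter_of_isCharacter (isCharacter_ps α α))
    (isGeneralizedCharacter_of_isCharacter (isCharacter_of_irr (isIrrCharacter_detChar α))))
    (by rw [classInner_st, if_pos rfl]) ?_
  rw [st_one, Complex.natCast_re]
  exact Nat.cast_nonneg _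

theorem st_injective : Function.Injective (st (F := F)) := by
  classical
  intro α β h
  by_contra hne
  have h1 := classInner_st α β
  rw [← h, classInner_st, if_pos rfl, if_neg hne] at h1
  exact one_ne_zero h1

end CfsgLib.GL2Char
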