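import Cfsg.Agent.Lib.GL2Char.Principal
import Cfsg.Agent.Lib.Characters.Decomp
import Cfsg.Agent.Lib.Characters.Values
import Cfsg.Agent.Lib.Chars17.MatRep
import Mathlib.NumberTheory.MulChar.Duality
import Mathlib.Data.Sym.Card

/-!
The classification of the irreducible characters of `GL_2`: one-dimensional, Steinberg, principal series,
cuspidal (recognised by vanishing sum over the unipotent radical; their degree is found by counting).
-/

set_option autoImplicit false

namespace CfsgLib.GL2Char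

open Matrix CfsgLib.Characters
open scoped ComplexConjugate

variable {F : Type*} [Field F] [Fintype F] [DecidableEq F]

local notation "GL2" => GL (Fin 2) F
local notation "M2" => Matrix (Fin 2) (Fin 2) F
local notation "B2" => Cfsg.upperTriangularGL 2 F

/-- A character with no fixed vector of the unipotent radical. -/
def Cusp (χ : GL (Fin 2) F → ℂ) : Prop :=
  ∑ x : F, χ (mkB 1 1 x : GL (Fin 2) F) = 0

theorem sum_mulChar_apply [Fintype (MulChar F ℂ)] {a : F} (ha : a ≠ 1) :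
    ∑ α : MulChar F ℂ, α a = 0 := by
  obtain ⟨χ, hχ⟩ := MulChar.exists_apply_ne_one_of_hasEnoughRootsOfUnity F ℂ ha
  refine eq_zero_of_mul_eq_self_left hχ ?_
  simp only [Finset.mul_sum, ← MulChar.mul_apply]
  exact Fintype.sum_bijective _ (Group.mulLeft_bijective χ) _ _ fun α => rfl

theorem exists_classInner_ps_ne_zero {χ : GL2 → ℂ} (hχ : Cfsg.IsIrrCharacter GL2 χ) (h : ¬ Cusp χ) :
    ∃ α β : MulChar F ℂ, Cfsg.classInner (ps α β) χ ≠ 0 := by
  classical
  let _ := Fintype.ofFinite (MulChar F ℂ)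
  by_contra hcon
  push Not at hcon
  have hcl := isClassFunction_of_isCharacter (isCharacter_of_irr hχ)
  have h0 : ∀ α β : MulChar F ℂ,
      ∑ a : Fˣ, ∑ d : Fˣ, α (a : F) * β (d : F) * conj (∑ x : F, χ (mkB a d x : GL2)) = 0 := by
    intro α β
    have := hcon α β
    rw [ps, CfsgLib.Induction.classInner_indFun B2 _ hcl, classInner_bChar, mul_eq_zero] at this
    exact this.resolve_left (inv_ne_zero card_factors_ne_zero)
  have h1 : ∑ α : MulChar F ℂ, ∑ β : MulChar F ℂ,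
      ∑ a : Fˣ, ∑ d : Fˣ, α (a : F) * β (d : F) * conj (∑ x : F, χ (mkB a d x : GL2)) = 0 :=
    Finset.sum_eq_zero fun α _ => Finset.sum_eq_zero fun β _ => h0 α β
  have hsplit : ∀ a d : Fˣ, ∑ α : MulChar F ℂ, ∑ β : MulChar F ℂ,
      α (a : F) * β (d : F) * conj (∑ x : F, χ (mkB a d x : GL2)) =
      (∑ α : MulChar F ℂ, α (a : F)) * (∑ β : MulChar F ℂ, β (d : F)) *
        conj (∑ x : F, χ (mkB a d x : GL2)) := by
    intro a d
    rw [Finset.sum_mul_sum, Finset.sum_mul]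
    exact Finset.sum_congr rfl fun α _ => (Finset.sum_mul _ _ _).symm
  rw [show (∑ α : MulChar F ℂ, ∑ β : MulChar F ℂ,
      ∑ a : Fˣ, ∑ d : Fˣ, α (a : F) * β (d : F) * conj (∑ x : F, χ (mkB a d x : GL2))) =
      ∑ a : Fˣ, ∑ d : Fˣ, ∑ α : MulChar F ℂ, ∑ β : MulChar F ℂ,
        α (a : F) * β (d : F) * conj (∑ x : F, χ (mkB a d x : GL2)) from by
    rw [Finset.sum_congr rfl (fun α _ => Finset.sum_comm), Finset.sum_comm]
    refine Finset.sum_congr rfl fun a _ => ?_
    rw [Finset.sum_congr rfl (fun α _ => Finset.sum_comm), Finset.sum_comm]] at h1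
  simp only [hsplit] at h1
  rw [Finset.sum_eq_single (1 : Fˣ), Finset.sum_eq_single (1 : Fˣ)] at h1
  · refine h ?_
    simp only [Units.val_one, map_one, Finset.sum_const, Finset.card_univ, nsmul_eq_mul, mul_one,
      mul_eq_zero, Nat.cast_eq_zero, Fintype.card_ne_zero, false_or, map_eq_zero] at h1
    exact h1
  · intro d _ hd
    rw [sum_mulChar_apply (fun e => hd (Units.ext e)), mul_zero, zero_mul]
  · simp
  · intro a _ ha
    exact Finset.sum_eq_zero fun d _ => by
      rw [sum_mulChar_apply (fun e => ha (Units.ext e)), zero_mul, zero_mul]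
  · simp

theorem irr_cases {χ : GL2 → ℂ} (hχ : Cfsg.IsIrrCharacter GL2 χ) :
    (∃ α, χ = detChar α) ∨ (∃ α, χ = st α) ∨ (∃ α β, α ≠ β ∧ χ = ps α β) ∨ Cusp χ := by
  classical
  by_cases hc : Cusp χ
  · exact .inr (.inr (.inr hc))
  obtain ⟨α, β, hne⟩ := exists_classInner_ps_ne_zero hχ hc
  let X : Cfsg.IrrCharacter GL2 := ⟨χ, hχ⟩
  by_cases hab : α = β
  · subst hab
    rw [show ps α α = detChar α + st α by rw [st, add_sub_cancel], classInner_add_left] at hne
    rw [classInner_irr ⟨detChar α, isIrrCharacter_detChar α⟩ X,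
      classInner_irr ⟨st α, isIrrCharacter_st α⟩ X] at hne
    split_ifs at hne with h1 h2 h2
    · exact .inl ⟨α, (congrArg Subtype.val h1).symm⟩
    · exact .inl ⟨α, (congrArg Subtype.val h1).symm⟩
    · exact .inr (.inl ⟨α, (congrArg Subtype.val h2).symm⟩)
    · simp at hne
  · rw [classInner_irr ⟨ps α β, isIrrCharacter_ps hab⟩ X] at hne
    split_ifs at hne with h1
    · exact .inr (.inr (.inl ⟨α, β, hab, (congrArg Subtype.val h1).symm⟩))
    · exact absurd rfl hne

theorem detChar_one (α : MulChar F ℂ) : detChar α (1 : GL2) = 1 := by simp [detChar]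

theorem not_cusp_detChar (α : MulChar F ℂ) : ¬ Cusp (detChar α) := by
  simp [Cusp, detChar, Finset.card_univ]

theorem not_cusp_ps (α β : MulChar F ℂ) : ¬ Cusp (ps α β) := by
  intro h
  rw [Cusp, sum_ps_mkB] at h
  simp at h

theorem not_cusp_st (α : MulChar F ℂ) : ¬ Cusp (st α) := by
  intro h
  simp only [Cusp, st, Pi.sub_apply, Finset.sum_sub_distrib] at h
  rw [sum_ps_mkB] at h
  simp [detChar, Finset.card_univ] at h
  have hq : (Fintype.card F : ℂ) ≠ 0 := Nat.cast_ne_zero.2 Fintype.card_ne_zero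
  exact hq (by linear_combination h)

theorem cusp_apply_uni {χ : GL2 → ℂ} (hχ : Cfsg.IsIrrCharacter GL2 χ) (hc : Cusp χ) :
    χ 1 + ((Fintype.card F : ℂ) - 1) * χ (mkB 1 1 (1 : F) : GL2) = 0 := by
  classical
  have hcl := isClassFunction_of_isCharacter (isCharacter_of_irr hχ)
  rw [Cusp, ← Finset.add_sum_erase _ _ (Finset.mem_univ (0 : F)),
    Finset.sum_congr rfl (g := fun _ => χ (mkB 1 1 (1 : F) : GL2)) (fun x hx => ?_), Finset.sum_const,
    Finset.card_erase_of_mem (Finset.mem_univ _), Finset.card_univ, nsmul_eq_mul,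
    Nat.cast_sub Fintype.card_pos, Nat.cast_one] at hc
  · rwa [show (mkB 1 1 (0 : F) : GL2) = 1 from Units.ext (by
      rw [mkB_coe]; ext i j; fin_cases i <;> fin_cases j <;> simp)] at hc
  · have hx0 : x ≠ 0 := Finset.ne_of_mem_erase hx
    obtain ⟨c, hcj⟩ := isConj_iff.1 (TwoByTwo.isConj_of_trace_det (g := (mkB 1 1 (1 : F) : GL2))
      (h := (mkB 1 1 x : GL2)) (by simp [TwoByTwo.IsScal]) (by simp [TwoByTwo.IsScal, hx0])
      (by simp [trace_fin_two]) (Units.ext (by simp [det_fin_two])))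
    rw [← hcj, hcl]

theorem cusp_degree {χ : GL2 → ℂ} (hχ : Cfsg.IsIrrCharacter GL2 χ) (hc : Cusp χ) :
    ∃ m : ℕ, 0 < m ∧ χ 1 = (m : ℂ) * ((Fintype.card F : ℂ) - 1) := by
  obtain ⟨n, hn, hn1⟩ := irr_exists_degree hχ
  have h := cusp_apply_uni hχ hc
  have hq : 1 < Fintype.card F := Fintype.one_lt_card
  have hdvd : Fintype.card F - 1 ∣ n := by
    refine nat_dvd_of_isIntegral_div (by omega) ?_
    have e : ((n : ℂ) / ((Fintype.card F - 1 : ℕ) : ℂ)) = -χ (mkB 1 1 (1 : F) : GL2) := by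
      rw [Nat.cast_sub hq.le, Nat.cast_one, ← hn1,
        div_eq_iff (sub_ne_zero.2 (by exact_mod_cast hq.ne'))]
      linear_combination h
    rw [e]
    exact (isIntegral_of_isCharacter (isCharacter_of_irr hχ) _).neg
  obtain ⟨m, rfl⟩ := hdvd
  refine ⟨m, Nat.pos_of_ne_zero fun e => by simp [e] at hn, ?_⟩
  rw [hn1, Nat.cast_mul, Nat.cast_sub hq.le, Nat.cast_one, mul_comm]

theorem card_GL2 : Nat.card GL2 =
    (Fintype.card F + 1) * ((Fintype.card F - 1) * (Fintype.card F - 1) * Fintype.card F) := by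
  rw [Subgroup.card_eq_card_quotient_mul_card_subgroup B2, card_B,
    ← Nat.card_eq_of_bijective _ (mk_lineRep_bijective (F := F)), Nat.card_eq_fintype_card,
    Fintype.card_option]

/-- The parameters of the non-cuspidal characters. -/
abbrev Param (F : Type*) [Field F] : Type _ :=
  MulChar F ℂ ⊕ MulChar F ℂ ⊕ {z : Sym2 (MulChar F ℂ) // ¬z.IsDiag}

/-- The character of a parameter. -/
noncomputable def paramFun : Param F → GL (Fin 2) F → ℂ :=
  Sum.elim detChar (Sum.elim st fun z => Sym2.lift ⟨ps, fun a b => (ps_eq_iff a b b a).2 (.inr ⟨rfl, rfl⟩)⟩ z.1)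

theorem paramFun_irr (p : Param F) : Cfsg.IsIrrCharacter GL2 (paramFun p) := by
  rcases p with α | α | ⟨z, hz⟩
  · exact isIrrCharacter_detChar α
  · exact isIrrCharacter_st α
  · induction z using Sym2.ind with
    | _ a b => exact isIrrCharacter_ps (by simpa using hz)

theorem paramFun_one (p : Param F) : paramFun p (1 : GL2) =
    Sum.elim (fun _ => 1) (Sum.elim (fun _ => (Fintype.card F : ℂ))
      fun _ => (Fintype.card F : ℂ) + 1) p := by
  rcases p with α | α | ⟨z, hz⟩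
  · exact detChar_one α
  · exact st_one α
  · induction z using Sym2.ind with
    | _ a b => exact ps_one a b

theorem not_cusp_paramFun (p : Param F) : ¬ Cusp (paramFun p) := by
  rcases p with α | α | ⟨z, hz⟩
  · exact not_cusp_detChar α
  · exact not_cusp_st α
  · induction z using Sym2.ind with
    | _ a b => exact not_cusp_ps a b

theorem degrees_apart : (1 : ℂ) ≠ (Fintype.card F : ℂ) ∧ (1 : ℂ) ≠ (Fintype.card F : ℂ) + 1 ∧
    (Fintype.card F : ℂ) ≠ (Fintype.card F : ℂ) + 1 := by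
  have : 1 < Fintype.card F := Fintype.one_lt_card
  refine ⟨?_, ?_, ?_⟩ <;> norm_cast <;> omega

theorem paramFun_injective : Function.Injective (paramFun (F := F)) := by
  obtain ⟨d1, d2, d3⟩ := degrees_apart (F := F)
  intro p p' h
  have h1 := congrFun h (1 : GL2)
  rw [paramFun_one, paramFun_one] at h1
  rcases p with α | α | ⟨z, hz⟩ <;> rcases p' with α' | α' | ⟨z', hz'⟩ <;>
    simp only [Sum.elim_inl, Sum.elim_inr] at h1 <;>
    first
    | exact absurd h1 d1
    | exact absurd h1.symm d1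
    | exact absurd h1 d2
    | exact absurd h1.symm d2
    | exact absurd h1 d3
    | exact absurd h1.symm d3
    | skip
  · exact congrArg Sum.inl (detChar_injective h)
  · exact congrArg (Sum.inr ∘ Sum.inl) (st_injective h)
  · refine congrArg (Sum.inr ∘ Sum.inr) (Subtype.ext ?_)
    induction z using Sym2.ind with
    | _ a b =>
      induction z' using Sym2.ind with
      | _ a' b' => exact Sym2.eq_iff.2 ((ps_eq_iff a b a' b').1 h)

theorem exists_param {χ : GL2 → ℂ} (hχ : Cfsg.IsIrrCharacter GL2 χ) (hc : ¬ Cusp χ) :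
    ∃ p : Param F, paramFun p = χ := by
  rcases irr_cases hχ with ⟨α, rfl⟩ | ⟨α, rfl⟩ | ⟨α, β, hab, rfl⟩ | h
  · exact ⟨.inl α, rfl⟩
  · exact ⟨.inr (.inl α), rfl⟩
  · exact ⟨.inr (.inr ⟨s(α, β), by simpa using hab⟩), rfl⟩
  · exact absurd h hc

/-- The cuspidal characters all have degree `q - 1`, and there are `q(q-1)/2` of them. -/
theorem cusp_count :
    (∀ χ : GL2 → ℂ, Cfsg.IsIrrCharacter GL2 χ → Cusp χ → χ 1 = (Fintype.card F : ℂ) - 1) ∧
      2 * Nat.card {χ : Cfsg.IrrCharacter GL2 // Cusp (χ : GL2 → ℂ)} =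
        Fintype.card F * (Fintype.card F - 1) := by
  classical
  let _ := Fintype.ofFinite (MulChar F ℂ)
  let _ := Fintype.ofFinite (Cfsg.IrrCharacter GL2)
  obtain ⟨r, hr⟩ : ∃ r, Fintype.card F = r + 1 :=
    ⟨Fintype.card F - 1, by have := Fintype.card_pos (α := F); omega⟩
  have hM : Fintype.card (MulChar F ℂ) = r := by
    rw [← Nat.card_eq_fintype_card, MulChar.card_eq_card_units_of_hasEnoughRootsOfUnity,
      Nat.card_units, Nat.card_eq_fintype_card, hr, Nat.add_sub_cancel]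
  let e : Param F ≃ {χ : Cfsg.IrrCharacter GL2 // ¬ Cusp (χ : GL2 → ℂ)} :=
    Equiv.ofBijective (fun p => ⟨⟨paramFun p, paramFun_irr p⟩, not_cusp_paramFun p⟩)
      ⟨fun p p' h => paramFun_injective (congrArg (fun χ => χ.1.1) h),
        fun χ => by
          obtain ⟨p, hp⟩ := exists_param χ.1.2 χ.2
          exact ⟨p, Subtype.ext (Subtype.ext hp)⟩⟩
  have hP : Fintype.card {z : Sym2 (MulChar F ℂ) // ¬z.IsDiag} = r.choose 2 := by
    rw [Sym2.card_subtype_not_diag, hM]
  have hC2 : (2 : ℂ) * ((r.choose 2 : ℕ) : ℂ) = (r : ℂ) * ((r : ℂ) - 1) := by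
    rw [Nat.cast_choose_two]; ring
  have hirr : Fintype.card (Cfsg.IrrCharacter GL2) = Fintype.card F ^ 2 - 1 := by
    rw [← Nat.card_eq_fintype_card, card_irr_eq_card_conjClasses, TwoByTwo.card_conjClasses_gl]
  set K := Fintype.card {χ : Cfsg.IrrCharacter GL2 // Cusp (χ : GL2 → ℂ)} with hK
  have hsum : K + (r + (r + r.choose 2)) = Fintype.card F ^ 2 - 1 := by
    have h1 := Fintype.card_congr e
    rw [Fintype.card_sum, Fintype.card_sum, hM, hP] at h1
    rw [h1, hK, ← hirr, ← Fintype.card_congr (Equiv.sumCompl fun χ : Cfsg.IrrCharacter GL2 =>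
      Cusp (χ : GL2 → ℂ)), Fintype.card_sum]
  have hKC : (K : ℂ) + ((r : ℂ) + ((r : ℂ) + (r.choose 2 : ℕ))) = ((r : ℂ) + 1) ^ 2 - 1 := by
    have := congrArg (Nat.cast (R := ℂ)) hsum
    rw [Nat.cast_sub (Nat.one_le_pow _ _ Fintype.card_pos), hr] at this
    push_cast at this
    exact this
  have hK2 : 2 * (K : ℂ) = ((r : ℂ) + 1) * r := by linear_combination 2 * hKC - hC2
  choose m hm using fun χ : {χ : Cfsg.IrrCharacter GL2 // Cusp (χ : GL2 → ℂ)} => cusp_degree χ.1.2 χ.2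
  have hsq : ∑ χ : {χ : Cfsg.IrrCharacter GL2 // Cusp (χ : GL2 → ℂ)}, (m χ : ℂ) ^ 2 * (r : ℂ) ^ 2 =
      (K : ℂ) * (r : ℂ) ^ 2 := by
    have h := sum_sq_degrees (G := GL2)
    rw [card_GL2, ← (Equiv.sumCompl fun χ : Cfsg.IrrCharacter GL2 => Cusp (χ : GL2 → ℂ)).sum_comp,
      Fintype.sum_sum_type] at h
    simp only [Equiv.sumCompl_apply_inl, Equiv.sumCompl_apply_inr] at h
    rw [← e.sum_comp, Fintype.sum_sum_type, Fintype.sum_sum_type] at h
    have he : ∀ p, ((e p).1 : GL2 → ℂ) 1 = Sum.elim (fun _ => 1) (Sum.elim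
        (fun _ => (Fintype.card F : ℂ)) fun _ => (Fintype.card F : ℂ) + 1) p := fun p => paramFun_one p
    simp only [he, Sum.elim_inl, Sum.elim_inr, Finset.sum_const,
      Finset.card_univ, nsmul_eq_mul, hM, hP] at h
    rw [Finset.sum_congr rfl fun χ _ => show ((χ.1 : Cfsg.IrrCharacter GL2) : GL2 → ℂ) 1 ^ 2 =
      (m χ : ℂ) ^ 2 * (r : ℂ) ^ 2 by
        rw [(hm χ).2, hr]; push_cast; ring] at h
    rw [hr, Nat.add_sub_cancel] at h
    push_cast at h
    linear_combination h - ((r : ℂ) ^ 2 / 2) * hK2 - (((r : ℂ) + 2) ^ 2 / 2) * hC2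
  have hone : ∀ χ, m χ = 1 := by
    have hr0 : r ≠ 0 := by have := Fintype.one_lt_card (α := F); omega
    rw [← Finset.sum_mul] at hsq
    have h1 : ∑ χ, m χ ^ 2 = K := by
      exact_mod_cast mul_right_cancel₀ (pow_ne_zero 2 (Nat.cast_ne_zero.2 hr0)) hsq
    intro χ
    refine le_antisymm ?_ (hm χ).1
    have h2 : ∑ χ : {χ : Cfsg.IrrCharacter GL2 // Cusp (χ : GL2 → ℂ)}, 1 = ∑ χ, m χ ^ 2 := by
      rw [h1, Finset.sum_const, Finset.card_univ, smul_eq_mul, mul_one]
    have h3 := (Finset.sum_eq_sum_iff_of_le fun ψ _ => Nat.one_le_pow _ _ (hm ψ).1).1 h2 χ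
      (Finset.mem_univ _)
    nlinarith
  refine ⟨fun χ hχ hc => ?_, ?_⟩
  · have := (hm ⟨⟨χ, hχ⟩, hc⟩).2
    rw [hone, Nat.cast_one, one_mul] at this
    exact this
  · rw [Nat.card_eq_fintype_card, ← hK, hr, Nat.add_sub_cancel]
    exact_mod_cast hK2

/-- The four types with their degrees. -/
theorem irr_types {χ : GL2 → ℂ} (hχ : Cfsg.IsIrrCharacter GL2 χ) :
    (∃ α, χ = detChar α ∧ χ 1 = 1) ∨ (∃ α, χ = st α ∧ χ 1 = (Fintype.card F : ℂ)) ∨
      (∃ α β, α ≠ β ∧ χ = ps α β ∧ χ 1 = (Fintype.card F : ℂ) + 1) ∨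
      (Cusp χ ∧ χ 1 = (Fintype.card F : ℂ) - 1) := by
  rcases irr_cases hχ with ⟨α, rfl⟩ | ⟨α, rfl⟩ | ⟨α, β, hab, rfl⟩ | h
  · exact .inl ⟨α, rfl, detChar_one α⟩
  · exact .inr (.inl ⟨α, rfl, st_one α⟩)
  · exact .inr (.inr (.inl ⟨α, β, hab, rfl, ps_one α β⟩))
  · exact .inr (.inr (.inr ⟨h, cusp_count.1 χ hχ h⟩))

/-- An idempotent-up-to-scale matrix of trace zero vanishes. -/
theorem eq_zero_of_mul_self {n : ℕ} {P : Matrix (Fin n) (Fin n) ℂ} {c : ℂ} (hc : c ≠ 0)
    (h : P * P = c • P) (ht : P.trace = 0) : P = 0 := by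
  have hI : IsIdempotentElem (Matrix.toLin' (c⁻¹ • P)) := by
    show _ * _ = _
    rw [Module.End.mul_eq_comp, ← Matrix.toLin'_mul, smul_mul_smul_comm, h, smul_smul, mul_assoc,
      inv_mul_cancel₀ hc, mul_one]
  have h1 := (LinearMap.IsIdempotentElem.isProj_range _ hI).trace
  rw [Matrix.trace_toLin'_eq, Matrix.trace_smul, ht, smul_zero] at h1
  have h2 : Module.finrank ℂ (LinearMap.range (Matrix.toLin' (c⁻¹ • P))) = 0 := by exact_mod_cast h1.symm
  have h3 := Submodule.finrank_eq_zero.1 h2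
  rw [LinearMap.range_eq_bot, LinearEquiv.map_eq_zero_iff, smul_eq_zero] at h3
  exact h3.resolve_left (inv_ne_zero hc)

theorem cusp_diag {χ : GL2 → ℂ} (hχ : Cfsg.IsIrrCharacter GL2 χ) (hc : Cusp χ) {g : GL2}
    (hg : DiagDistinct (g : M2)) : χ g = 0 := by
  classical
  obtain ⟨n, M, -, hM⟩ := CfsgLib.Chars17.IsIrrCharacter.exists_mat hχ
  have hcl := isClassFunction_of_isCharacter (isCharacter_of_irr hχ)
  set P := ∑ x : F, M (mkB 1 1 x : GL2) with hP
  have hq : (Fintype.card F : ℂ) ≠ 0 := Nat.cast_ne_zero.2 Fintype.card_ne_zero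
  have hmul : ∀ x y : F, (mkB 1 1 x : GL2) * (mkB 1 1 y : GL2) = (mkB 1 1 (x + y) : GL2) := fun x y =>
    Units.ext (by
      rw [Units.val_mul]
      ext i j
      fin_cases i <;> fin_cases j <;> simp [Matrix.mul_apply, Fin.sum_univ_two, add_comm])
  have hPP : P * P = (Fintype.card F : ℂ) • P := by
    have hshift : ∀ x : F, M (mkB 1 1 x : GL2) * P = P := by
      intro x
      rw [hP, Finset.mul_sum]
      simp only [← map_mul, hmul]
      exact Equiv.sum_comp (Equiv.addLeft x) fun y : F => M (mkB 1 1 y : GL2)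
    conv_lhs => rw [hP, Finset.sum_mul]
    rw [← hP, Finset.sum_congr rfl fun x _ => hshift x, Finset.sum_const, Finset.card_univ,
      Nat.cast_smul_eq_nsmul]
  have hP0 : P = 0 := eq_zero_of_mul_self hq hPP (by
    rw [hP, Matrix.trace_sum]
    simp only [hM]
    exact hc)
  obtain ⟨h01, h10, hne⟩ := hg
  have hgB : g ∈ B2 := mem_B.2 h10
  have hconj : ∀ x : F, χ (g * (mkB 1 1 x : GL2)) = χ g := by
    intro x
    obtain ⟨c, hcj⟩ := isConj_iff.1 (TwoByTwo.isConj_of_trace_det (g := g) (h := g * (mkB 1 1 x : GL2))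
      (fun hs => hne hs.2.2)
      (fun hs => hne (by simpa [Matrix.mul_apply, Fin.sum_univ_two, h01, h10] using hs.2.2))
      (by simp [trace_fin_two, Matrix.mul_apply, Fin.sum_univ_two, h01, h10])
      (Units.ext (by simp [det_fin_two])))
    rw [← hcj, hcl]
  have : ∑ x : F, χ (g * (mkB 1 1 x : GL2)) = 0 := by
    simp only [← hM, map_mul]
    rw [← Matrix.trace_sum, ← Finset.mul_sum, ← hP, hP0, mul_zero, Matrix.trace_zero]
  simp only [hconj, Finset.sum_const, Finset.card_univ, nsmul_eq_mul, mul_eq_zero] at this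
  exact this.resolve_left hq

theorem norm_mulChar {α : MulChar F ℂ} {a : F} (ha : a ≠ 0) : ‖α a‖ = 1 := by
  refine Complex.norm_eq_one_of_pow_eq_one (n := Fintype.card F - 1) ?_ ?_
  · rw [← map_pow, FiniteField.pow_card_sub_one_eq_one a ha, map_one]
  · have := Fintype.one_lt_card (α := F); omega

/-- The numbers of irreducible characters of each degree, `q ≥ 3`. -/
theorem degree_counts (hq : 3 ≤ Fintype.card F) :
    Nat.card {χ : Cfsg.IrrCharacter GL2 // (χ : GL2 → ℂ) 1 = 1} = Fintype.card F - 1 ∧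
    Nat.card {χ : Cfsg.IrrCharacter GL2 // (χ : GL2 → ℂ) 1 = (Fintype.card F : ℂ)} = Fintype.card F - 1 ∧
    Nat.card {χ : Cfsg.IrrCharacter GL2 // (χ : GL2 → ℂ) 1 = (Fintype.card F : ℂ) + 1} =
      (Fintype.card F - 1) * (Fintype.card F - 2) / 2 ∧
    Nat.card {χ : Cfsg.IrrCharacter GL2 // (χ : GL2 → ℂ) 1 = (Fintype.card F : ℂ) - 1} =
      Fintype.card F * (Fintype.card F - 1) / 2 := by
  classical
  let _ := Fintype.ofFinite (MulChar F ℂ)
  obtain ⟨d1, d2, d3⟩ := degrees_apart (F := F)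
  have hM : Nat.card (MulChar F ℂ) = Fintype.card F - 1 := by
    rw [MulChar.card_eq_card_units_of_hasEnoughRootsOfUnity, Nat.card_units, Nat.card_eq_fintype_card]
  have d4 : (1 : ℂ) ≠ (Fintype.card F : ℂ) - 1 := by
    intro h
    have h' : (Fintype.card F : ℂ) = ((2 : ℕ) : ℂ) := by push_cast; linear_combination -h
    norm_cast at h'
    omega
  have d5 : (Fintype.card F : ℂ) ≠ (Fintype.card F : ℂ) - 1 := fun h =>
    one_ne_zero (α := ℂ) (by linear_combination h)
  have d6 : (Fintype.card F : ℂ) + 1 ≠ (Fintype.card F : ℂ) - 1 := fun h =>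
    two_ne_zero (α := ℂ) (by linear_combination h)
  refine ⟨?_, ?_, ?_, ?_⟩
  · rw [← hM]
    refine (Nat.card_eq_of_bijective
      (fun α => ⟨⟨detChar α, isIrrCharacter_detChar α⟩, detChar_one α⟩) ⟨fun α β h =>
        detChar_injective (congrArg (fun χ => χ.1.1) h), fun χ => ?_⟩).symm
    rcases irr_types χ.1.2 with ⟨α, h, -⟩ | ⟨α, -, e⟩ | ⟨α, β, -, -, e⟩ | ⟨-, e⟩
    · exact ⟨α, Subtype.ext (Subtype.ext h.symm)⟩
    · exact absurd (χ.2.symm.trans e) d1
    · exact absurd (χ.2.symm.trans e) d2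
    · exact absurd (χ.2.symm.trans e) d4
  · rw [← hM]
    refine (Nat.card_eq_of_bijective (fun α => ⟨⟨st α, isIrrCharacter_st α⟩, st_one α⟩) ⟨fun α β h =>
        st_injective (congrArg (fun χ => χ.1.1) h), fun χ => ?_⟩).symm
    rcases irr_types χ.1.2 with ⟨α, -, e⟩ | ⟨α, h, -⟩ | ⟨α, β, -, -, e⟩ | ⟨-, e⟩
    · exact absurd (e.symm.trans χ.2) d1
    · exact ⟨α, Subtype.ext (Subtype.ext h.symm)⟩
    · exact absurd (χ.2.symm.trans e) d3
    · exact absurd (χ.2.symm.trans e) d5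
  · have hP : Nat.card {z : Sym2 (MulChar F ℂ) // ¬z.IsDiag} =
        (Fintype.card F - 1) * (Fintype.card F - 2) / 2 := by
      rw [Nat.card_eq_fintype_card, Sym2.card_subtype_not_diag, ← Nat.card_eq_fintype_card, hM,
        Nat.choose_two_right, show Fintype.card F - 1 - 1 = Fintype.card F - 2 by omega]
    rw [← hP]
    refine (Nat.card_eq_of_bijective (fun z => ⟨⟨paramFun (.inr (.inr z)), paramFun_irr _⟩,
        (paramFun_one (.inr (.inr z))).trans rfl⟩) ⟨fun z z' h => ?_, fun χ => ?_⟩).symm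
    · exact Sum.inr_injective (Sum.inr_injective (paramFun_injective (congrArg (fun χ => χ.1.1) h)))
    rcases irr_types χ.1.2 with ⟨α, -, e⟩ | ⟨α, -, e⟩ | ⟨α, β, hab, h, -⟩ | ⟨-, e⟩
    · exact absurd (e.symm.trans χ.2) d2
    · exact absurd (e.symm.trans χ.2) d3
    · exact ⟨⟨s(α, β), by simpa using hab⟩, Subtype.ext (Subtype.ext h.symm)⟩
    · exact absurd (χ.2.symm.trans e) d6
  · have hiff : ∀ χ : Cfsg.IrrCharacter GL2,
        (χ : GL2 → ℂ) 1 = (Fintype.card F : ℂ) - 1 ↔ Cusp (χ : GL2 → ℂ) := by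
      intro χ
      refine ⟨fun hd => ?_, fun h => cusp_count.1 _ χ.2 h⟩
      rcases irr_types χ.2 with ⟨α, -, e⟩ | ⟨α, -, e⟩ | ⟨α, β, -, -, e⟩ | ⟨h, -⟩
      · exact absurd (e.symm.trans hd) d4
      · exact absurd (e.symm.trans hd) d5
      · exact absurd (e.symm.trans hd) d6
      · exact h
    rw [Nat.card_congr (Equiv.subtypeEquivRight hiff), ← cusp_count.2, Nat.mul_div_cancel_left _ two_pos]

end CfsgLib.GL2Char
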